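import Groth.Agent.Lib.QcohEt15.Colim.Criterion
import Groth.Agent.Lib.QcohEt15.Sub
import Groth.Agent.Lib.QcohEt15.LocColim
import Groth.Agent.Lib.QcohEt15.HPush
import Groth.Agent.Lib.EtColim.Main

/-!
# Cohomology of quasi-compact quasi-separated spaces and filtered colimits
-/

set_option autoImplicit false
set_option backward.isDefEq.respectTransparency false
set_option backward.isDefEq.respectTransparency.types false

universe u

open CategoryTheory CategoryTheory.Limits Opposite AlgebraicGeometry ToposFin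

namespace Groth.Agent.QcohEt15.Colim

open AlgSp Groth.Agent.AlgSpace Groth.Agent.AlgSpEt

variable {S : Scheme.{u}} (X : Sp S)

/-- Objects with quasi-compact quasi-separated underlying scheme. -/
def qcqs : ObjectProperty (EtOver X) := fun U => CompactSpace ↥U.obj.left.left ∧ QuasiSeparatedSpace ↥U.obj.left.left

/-- The small site of quasi-compact quasi-separated objects. -/
abbrev QSite : Type (u + 1) := ULiftHom.{u + 1} (qcqs X).FullSubcategory

/-- The inclusion. -/
abbrev incl : QSite X ⥤ EtOver X := ULiftHom.down ⋙ (qcqs X).ι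

instance : (ULiftHom.down : QSite X ⥤ (qcqs X).FullSubcategory).IsEquivalence :=
  ULiftHom.equiv.isEquivalence_inverse

variable {X}

theorem mem_etTop_iff {E : EtOver X} {R : Sieve E} :
    R ∈ etTop X E ↔ ∀ x : ↥E.obj.left.left, ∃ (Y : EtOver X) (g : Y ⟶ E), R g ∧ x ∈ Set.range g.hom.left.left := by
  refine ⟨fun hR x => ?_, fun h => ?_⟩
  · obtain ⟨R', hR', hle⟩ := (Precoverage.mem_toGrothendieck_iff_of_isStableUnderComposition).1 hR
    obtain ⟨ι, Z, f, rfl⟩ := R'.exists_eq_ofArrows
    obtain ⟨i, v, hv⟩ := (ofArrows_mem_etPre_iff Z f).1 hR' x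
    exact ⟨Z i, f i, hle _ _ (Presieve.ofArrows.mk i), v, hv⟩
  · choose Y g hg hx using h
    refine (etTop X).superset_covering ?_ (ofArrows_mem_etTop Y g fun x => ⟨x, hx x⟩)
    rw [Sieve.generate_le_iff]
    rintro Z k ⟨x⟩
    exact hg x

theorem qcqs_of_isAffine (U : EtOver X) [IsAffine U.obj.left.left] : qcqs X U := ⟨inferInstance, inferInstance⟩

theorem qcqs_pullbackObj {A B Z : EtOver X} (f : A ⟶ Z) (g : B ⟶ Z) (hA : qcqs X A) (hB : qcqs X B)
    (hZ : qcqs X Z) : qcqs X (EtOver.pullbackObj f g) := by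
  have sq := (IsPullback.of_hasPullback f.hom.left g.hom.left).map (Over.forget S)
  obtain ⟨_, _⟩ := hA; obtain ⟨_, _⟩ := hB; obtain ⟨_, _⟩ := hZ
  haveI : CompactSpace ↥((Over.forget S).obj A.obj.left) := ‹CompactSpace ↥A.obj.left.left›
  haveI : CompactSpace ↥((Over.forget S).obj B.obj.left) := ‹CompactSpace ↥B.obj.left.left›
  haveI : QuasiSeparatedSpace ↥((Over.forget S).obj A.obj.left) := ‹QuasiSeparatedSpace ↥A.obj.left.left›
  haveI : QuasiSeparatedSpace ↥((Over.forget S).obj B.obj.left) := ‹QuasiSeparatedSpace ↥B.obj.left.left›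
  haveI : QuasiSeparatedSpace ↥((Over.forget S).obj Z.obj.left) := ‹QuasiSeparatedSpace ↥Z.obj.left.left›
  let k : (EtOver.pullbackObj f g).obj.left.left ⟶ A.obj.left.left := (EtOver.pullbackFst f g).hom.left.left
  haveI : QuasiCompact k := MorphismProperty.of_isPullback (P := @QuasiCompact) sq.flip inferInstance
  haveI : QuasiSeparated k := MorphismProperty.of_isPullback (P := @QuasiSeparated) sq.flip inferInstance
  exact ⟨QuasiCompact.compactSpace_of_compactSpace k, quasiSeparatedSpace_of_quasiSeparated k⟩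

theorem qcqs_prodObj [QuasiSeparatedSpace ↥S] (hX : IsAlgSpace X) (hqs : IsQuasiSeparatedSp X) {A B : EtOver X}
    (hA : qcqs X A) (hB : qcqs X B) : qcqs X (EtOver.prodObj A B) := by
  obtain ⟨_, _⟩ := hA; obtain ⟨_, _⟩ := hB
  have sq : IsPullback ((yon S).map (B.property.1.fst' A.obj.hom))
      ((yon S).map (B.property.1.snd A.obj.hom)) B.obj.hom A.obj.hom := B.property.1.isPullback' A.obj.hom
  let x : (EtOver.prodObj A B).obj.left ⟶ B.obj.left := B.property.1.fst' A.obj.hom
  let y : (EtOver.prodObj A B).obj.left ⟶ A.obj.left := B.property.1.snd A.obj.hom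
  have h1 : QuasiCompact (prod.lift x y).left := prop_lift_of_repWith_diag (P := @QuasiCompact) hqs sq
  have h1' : IsSeparated (prod.lift x y).left :=
    prop_lift_of_repWith_diag (P := @IsSeparated) (repWith_diag_isSeparated hX.diag) sq
  have : QuasiCompact B.obj.left.hom := inferInstance
  have : QuasiSeparated B.obj.left.hom := inferInstance
  have sq2 := Over.isPullback_of_binaryFan_isLimit (BinaryFan.mk prod.fst prod.snd) (prodIsProd B.obj.left A.obj.left)
  have h2 : QuasiCompact (prod.snd : B.obj.left ⨯ A.obj.left ⟶ A.obj.left).left :=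
    MorphismProperty.of_isPullback (P := @QuasiCompact) sq2 ‹QuasiCompact B.obj.left.hom›
  have h2' : QuasiSeparated (prod.snd : B.obj.left ⨯ A.obj.left ⟶ A.obj.left).left :=
    MorphismProperty.of_isPullback (P := @QuasiSeparated) sq2 ‹QuasiSeparated B.obj.left.hom›
  have h3 : QuasiCompact y.left ∧ QuasiSeparated y.left := by
    rw [← prod.lift_snd x y, Over.comp_left]
    exact ⟨inferInstance, inferInstance⟩
  obtain ⟨_, _⟩ := h3
  exact ⟨QuasiCompact.compactSpace_of_compactSpace y.left, quasiSeparatedSpace_of_quasiSeparated y.left⟩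

variable (X)

instance isCoverDense_incl : (incl X).IsCoverDense (etTop X) where
  is_cover U := by
    refine mem_etTop_iff.2 fun x => ?_
    obtain ⟨O, hx⟩ := exists_openSub_mem U x
    have : IsAffine (AlgSpEt14.openSub U O.1).obj.left.left := O.2
    refine ⟨AlgSpEt14.openSub U O.1, AlgSpEt14.openSubι U O.1, ?_, hx⟩
    exact ⟨⟨ULiftHom.objUp ⟨AlgSpEt14.openSub U O.1, qcqs_of_isAffine _⟩, 𝟙 _, AlgSpEt14.openSubι U O.1,
      Category.id_comp _⟩⟩

/-- The topology. -/
abbrev qTop : GrothendieckTopology (QSite X) := (incl X).inducedTopology (etTop X)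

instance hasPullbacks_qSite : HasPullbacks (QSite X) := by
  refine @hasPullbacks_of_hasLimit_cospan _ _ fun {A B Z f g} => ?_
  have hq := qcqs_pullbackObj ((incl X).map f) ((incl X).map g)
    A.objDown.property B.objDown.property Z.objDown.property
  let P : QSite X := ULiftHom.objUp ⟨EtOver.pullbackObj ((incl X).map f) ((incl X).map g), hq⟩
  exact (IsPullback.of_map_of_faithful (incl X)
    (f := (incl X).preimage (EtOver.pullbackFst ((incl X).map f) ((incl X).map g)) (X := P))
    (g := (incl X).preimage (EtOver.pullbackSnd ((incl X).map f) ((incl X).map g)) (X := P)) (h := f) (i := g)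
    (by rw [Functor.map_preimage, Functor.map_preimage]; exact EtOver.isPullback _ _)).hasPullback

theorem hasBinaryProducts_qSite [QuasiSeparatedSpace ↥S] (hX : IsAlgSpace X) (hqs : IsQuasiSeparatedSp X) :
    HasBinaryProducts (QSite X) := by
  refine @hasBinaryProducts_of_hasLimit_pair _ _ fun {A B} => ?_
  let P : QSite X := ULiftHom.objUp ⟨EtOver.prodObj ((incl X).obj A) ((incl X).obj B),
    qcqs_prodObj hX hqs A.objDown.property B.objDown.property⟩
  let p : P ⟶ A := (incl X).preimage (EtOver.prodFst ((incl X).obj A) ((incl X).obj B))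
  let q : P ⟶ B := (incl X).preimage (EtOver.prodSnd ((incl X).obj A) ((incl X).obj B))
  have h : IsLimit (BinaryFan.mk ((incl X).map p) ((incl X).map q)) := by
    rw [Functor.map_preimage, Functor.map_preimage]
    exact EtOver.prodIsLimit _ _
  exact ⟨⟨⟨BinaryFan.mk p q, isLimitOfReflects (incl X) ((isLimitMapConeBinaryFanEquiv (incl X) p q).symm h)⟩⟩⟩

theorem isQCSite (U : QSite X) : IsQCSite (qTop X) U := by
  intro R hR
  rw [Functor.mem_inducedTopology_iff_of_isCoverDense, mem_etTop_iff] at hR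
  obtain ⟨hcU, -⟩ := U.objDown.property
  have hR' : ∀ x : ↥((incl X).obj U).obj.left.left, ∃ (V : QSite X) (g : V ⟶ U), R g ∧
      x ∈ Set.range ((incl X).map g).hom.left.left := by
    intro x
    obtain ⟨Y, f, ⟨V, g, h, hg, rfl⟩, y, hy⟩ := hR x
    exact ⟨V, g, hg, h.hom.left.left y, hy⟩
  choose V g hg hx using hR'
  have hopen : ∀ x, IsOpen (Set.range ((incl X).map (g x)).hom.left.left) := fun x => by
    have := EtOver.etale_left ((incl X).map (g x))
    exact ((incl X).map (g x)).hom.left.left.isOpenMap.isOpen_range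
  haveI : CompactSpace ↥((incl X).obj U).obj.left.left := hcU
  obtain ⟨t, ht⟩ := isCompact_univ.elim_finite_subcover (fun x => Set.range ((incl X).map (g x)).hom.left.left) hopen
    (fun x _ => Set.mem_iUnion.2 ⟨x, hx x⟩)
  refine ⟨t.card, fun k => V (t.equivFin.symm k), fun k => g (t.equivFin.symm k), fun k => hg _, ?_⟩
  rw [Functor.mem_inducedTopology_iff_of_isCoverDense, mem_etTop_iff]
  intro x
  obtain ⟨z, hz, y, hy⟩ := Set.mem_iUnion₂.1 (ht (Set.mem_univ x))
  obtain ⟨k, rfl⟩ : ∃ k, (t.equivFin.symm k).1 = z := ⟨t.equivFin ⟨z, hz⟩, by simp⟩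
  refine ⟨_, (incl X).map (g (t.equivFin.symm k)), Sieve.image_mem_functorPushforward _ _ ?_, y, hy⟩
  exact Sieve.ofArrows_mk _ _ k

variable [QuasiSeparatedSpace ↥S]

theorem isAlgebraic (hX : IsAlgSpace X) (hqc : IsQuasiCompactSp X) (hqs : IsQuasiSeparatedSp X) :
    IsAlgebraic (qTop X) ∧ IsCoherent (⊤_ (Sh (qTop X))) := by
  obtain ⟨T, p, hT, hpe, hps⟩ := exists_affine_chart hqc
  let E : EtOver X := EtOver.mk p hpe
  have : IsAffine E.obj.left.left := hT
  let U : QSite X := ULiftHom.objUp ⟨E, qcqs_of_isAffine E⟩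
  haveI := hasBinaryProducts_qSite X hX hqs
  refine isAlgebraic_of_site (qTop X) (isQCSite X) U fun V => ?_
  let R : Sieve V :=
    { arrows := fun W _ => Nonempty (W ⟶ U)
      downward_closed := fun {W W'} g ⟨m⟩ h => ⟨h ≫ m⟩ }
  refine ⟨R, ?_, fun W g hg => hg⟩
  rw [Functor.mem_inducedTopology_iff_of_isCoverDense, mem_etTop_iff]
  intro x
  let P : QSite X := ULiftHom.objUp ⟨EtOver.prodObj ((incl X).obj V) E,
    qcqs_prodObj hX hqs V.objDown.property (qcqs_of_isAffine E)⟩
  obtain ⟨q, hq, l, rfl⟩ := exists_geometric_lift ((incl X).obj V) x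
  obtain ⟨v, hv⟩ := surjective_ofPt hps (Points.mk q)
  obtain ⟨m, -⟩ := exists_lift_of_point q hq E v hv
  obtain ⟨n, hn, -⟩ := exists_lift_prod q l m
  refine ⟨_, (incl X).map ((incl X).preimage (X := P) (EtOver.prodFst ((incl X).obj V) E)),
    Sieve.image_mem_functorPushforward (incl X) R ?_, liftPt q n, ?_⟩
  · exact ⟨(incl X).preimage (X := P) (Y := U) (EtOver.prodSnd ((incl X).obj V) E)⟩
  · rw [Functor.map_preimage]
    exact (liftPt_map q _ n).symm.trans (congrArg (liftPt q) hn)

omit [QuasiSeparatedSpace ↥S]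

/-- Restriction to the small site. -/
noncomputable abbrev resQ : AbEt X ⥤ Sheaf (qTop X) AddCommGrpCat.{u + 1} :=
  (incl X).sheafPushforwardContinuous AddCommGrpCat.{u + 1} (qTop X) (etTop X)

theorem nonempty_res_const : Nonempty ((resQ X).obj (cS X) ≅
    (constantSheaf (qTop X) AddCommGrpCat.{u + 1}).obj (AddCommGrpCat.of (ULift.{u + 1} ℤ))) :=
  ⟨(((incl X).pushforwardContinuousSheafificationCompatibility AddCommGrpCat.{u + 1} (qTop X) (etTop X)).app
    (cP X)).symm⟩

/-- Cohomology commutes with filtered colimits. -/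
theorem preservesColimitsOfShape_HEtF [QuasiSeparatedSpace ↥S] (hX : IsAlgSpace X) (hqc : IsQuasiCompactSp X)
    (hqs : IsQuasiSeparatedSp X) (p : ℕ) (Λ : Type (u + 1)) [SmallCategory Λ] [IsFiltered Λ] :
    PreservesColimitsOfShape Λ (HEtF X p) := by
  obtain ⟨hE, hT⟩ := isAlgebraic X hX hqc hqs
  obtain ⟨e⟩ := nonempty_res_const X
  obtain ⟨e'⟩ := CohColim.nonempty_freeTerminalIso (J := qTop X)
  haveI : (resQ X).Additive := { }
  haveI : ∀ D : Λ ⥤ AbEt X, PreservesColimit D (HEtF X p) := fun D => by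
    obtain ⟨h1, h2⟩ := ExtColim.surj_inj_of_equivalence (resQ X) (cS X) (e ≪≫ e'.symm) p D
      (CohColim.free_surj_inj hE hT p _)
    haveI := ExtColim.preservesColimit_extFunctor h1 h2
    exact preservesColimit_of_natIso D (F := (Abelian.extFunctor.{u + 1} p).obj (op (cS X)))
      (NatIso.ofComponents (fun F => Iso.refl _) (fun φ => by ext x; rfl))
  exact ⟨fun {_} => inferInstance⟩

end Groth.Agent.QcohEt15.Colim
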