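import Groth.Agent.Lib.EtColim.Site

/-!
# A coherence criterion for topoi of sites without final object
-/

set_option autoImplicit false
set_option backward.isDefEq.respectTransparency false

universe w

open CategoryTheory CategoryTheory.Limits Opposite ToposFin

namespace Groth.Agent.QcohEt15.Colim

open Groth.Agent.Topos

variable {C : Type w} [SmallCategory C] (J : GrothendieckTopology C)

theorem isPullback_eps_prod [HasBinaryProducts C] (A B : C) :
    IsPullback ((presheafToSheaf J (Type w)).map (yoneda.map (prod.fst : A ⨯ B ⟶ A)))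
      ((presheafToSheaf J (Type w)).map (yoneda.map (prod.snd : A ⨯ B ⟶ B)))
      (terminal.from (eps J A)) (terminal.from (eps J B)) :=
  IsPullback.of_is_product (c := BinaryFan.mk ((presheafToSheaf J (Type w)).map (yoneda.map (prod.fst : A ⨯ B ⟶ A)))
      ((presheafToSheaf J (Type w)).map (yoneda.map (prod.snd : A ⨯ B ⟶ B))))
    ((isLimitMapConeBinaryFanEquiv (yoneda ⋙ presheafToSheaf J (Type w)) prod.fst prod.snd).1
      (isLimitOfPreserves (yoneda ⋙ presheafToSheaf J (Type w)) (prodIsProd A B))) terminalIsTerminal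

/-- A site with fibre products and products, quasi-compact objects and a covering of the final object by one
representable gives a coherent topos. -/
theorem isAlgebraic_of_site [HasPullbacks C] [HasBinaryProducts C] (hC : ∀ U : C, IsQCSite J U) (U : C)
    (hU : ∀ V : C, ∃ R ∈ J V, ∀ ⦃W : C⦄ (g : W ⟶ V), R g → Nonempty (W ⟶ U)) :
    IsAlgebraic J ∧ IsCoherent (⊤_ (Sh J)) := by
  have hE := hasQCGenerators J hC
  have hqc : IsQC (⊤_ (Sh J)) := by
    have : Epi (terminal.from (eps J U)) := by
      refine (epi_iff_lift _).2 fun V s => ?_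
      obtain ⟨R, hR, hR'⟩ := hU V
      refine J.superset_covering (fun W g hg => ?_) hR
      obtain ⟨m⟩ := hR' g hg
      refine ⟨⟨⟩, epsSec J m, ?_⟩
      have ht : IsTerminal (⊤_ (Sh J)).obj := terminalIsTerminal.isTerminalObj (sheafToPresheaf J (Type w)) _
      have : Subsingleton ((⊤_ (Sh J)).obj.obj (op W)) :=
        ((ht.isTerminalObj ((evaluation _ _).obj (op W)) _).uniqueUpToIso Types.isTerminalPunit).toEquiv.subsingleton
      exact Subsingleton.elim _ _
    exact qc_of_epi (terminal.from (eps J U)) ((isQCSite_iff_isQC_eps J U).1 (hC U))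
  have hqs : IsQS (⊤_ (Sh J)) := by
    refine isQS_iff.2 fun Y a hY => ?_
    obtain ⟨s, hs⟩ := hY _ _ _ (jepi_epsDesc J Y)
    refine qcHom_of_finite_source a _ hs fun i => ?_
    refine qcHom_of_generators _ (fun G => ∃ B, G = eps J B)
      (fun Z => ⟨Σ B : C, Z.obj.obj (op B), fun p => eps J p.1, fun p => epsDesc J p.2, fun p => ⟨p.1, rfl⟩,
      jepi_epsDesc J Z⟩) fun G t ⟨B, hB⟩ => ?_
    subst hB
    refine qc_iso (pullback.congrHom (Subsingleton.elim (terminal.from (eps J i.1.1)) _)
      (Subsingleton.elim (terminal.from (eps J B)) _)) ?_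
    exact qc_iso (isPullback_eps_prod J i.1.1 B).isoPullback ((isQCSite_iff_isQC_eps J _).1 (hC _))
  have hT : IsCoherent (⊤_ (Sh J)) := ⟨hqc, hqs⟩
  have hqsHom : ∀ L : Sh J, IsCoherent L → IsQSHom (terminal.from L) := fun L hL => by
    refine qsHom_of_cover_qs_products hE _ _ (jepi_epsDesc J L)
      (fun i => (isQCSite_iff_isQC_eps J _).1 (hC _)) (fun i j => ?_) hL.2
    exact qs_of_mono ((pullback.congrHom (Subsingleton.elim _ _) (Subsingleton.elim _ _)).hom ≫
      (isPullback_eps_prod J i.1 j.1).isoPullback.inv) (isCoherent_eps J hC _).2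
  have hpb : ∀ {K L M : Sh J} (f : K ⟶ M) (g : L ⟶ M), IsCoherent K → IsCoherent L → IsCoherent M →
      IsCoherent (pullback f g) := fun f g hK hL hM =>
    ⟨hM.2 _ _ f g hK.1 hL.1, qs_of_qsHom (pullback.fst f g) (qsHom_isPullback (IsPullback.of_hasPullback f g).flip
      (qsHom_of_comp g (terminal.from _)
        (by rw [Subsingleton.elim (g ≫ terminal.from _) (terminal.from _)]; exact hqsHom _ hL))) hK.2⟩
  refine ⟨⟨{K | IsCoherent K}, fun K hK => hK.1, fun Z => ?_,
    fun K L M f g hK hL hM => ⟨_, _, _, hpb f g hK hL hM, IsPullback.of_hasPullback f g⟩, fun K L a b hK hL => ?_⟩, hT⟩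
  · exact ⟨Σ U : C, Z.obj.obj (op U), fun p => eps J p.1, fun p => epsDesc J p.2,
      fun p => isCoherent_eps J hC p.1, fun W x y h => jepi_cancel (jepi_epsDesc J Z) x y h⟩
  · let pa : K ⟶ pullback (terminal.from K) (terminal.from L) := pullback.lift (𝟙 K) a (Subsingleton.elim _ _)
    let pb : K ⟶ pullback (terminal.from K) (terminal.from L) := pullback.lift (𝟙 K) b (Subsingleton.elim _ _)
    have h12 : pullback.fst pa pb = pullback.snd pa pb := by
      simpa [pa, pb] using congrArg (fun m => m ≫ pullback.fst _ _) (pullback.condition (f := pa) (g := pb))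
    have w : pullback.fst pa pb ≫ a = pullback.fst pa pb ≫ b := by
      conv_rhs => rw [h12]
      simpa [pa, pb] using congrArg (fun m => m ≫ pullback.snd _ _) (pullback.condition (f := pa) (g := pb))
    have key : ∀ s : Fork a b, s.ι ≫ pa = s.ι ≫ pb := fun s =>
      pullback.hom_ext (by simp [pa, pb]) (by simpa [pa, pb] using s.condition)
    refine ⟨_, pullback.fst pa pb, w, hpb pa pb hK hK (hpb _ _ hK hL hT), ⟨Fork.IsLimit.mk _
      (fun s => pullback.lift s.ι s.ι (key s)) (fun s => pullback.lift_fst _ _ _) fun s m hm => ?_⟩⟩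
    refine pullback.hom_ext (hm.trans (pullback.lift_fst _ _ _).symm) ?_
    rw [pullback.lift_snd, ← h12]
    exact hm

end Groth.Agent.QcohEt15.Colim
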